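import Groth.Agent.Sga7.H762.NearbyDepth

/-!
# Nearby cycles at an isolated non-smooth point from étale depth, without flatness

The results of `Sga7/H762` (`NearbyRed`, `NearbyCI`, `NearbyDepth`) for a morphism `f : X ⟶ Spec V` locally of
finite presentation which is not assumed to be flat at the point under consideration.
-/

set_option autoImplicit false
universe u

open CategoryTheory CategoryTheory.Limits AlgebraicGeometry IsLocalRing Opposite
open scoped TensorProduct

namespace Groth.Agent.SGA7.K445.NearbyNF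

open Groth.Agent.Sga7.H762
open FinDVR Geom GenAcyc NearbyRed NearbyCI NearbyDepth Groth.Agent.Sga7.H752.BaseExt

section

variable {V V' : Type u} [CommRing V] [IsDomain V] [IsDiscreteValuationRing V] [CommRing V'] [IsDomain V']
  [IsDiscreteValuationRing V'] [Algebra V V'] (A : Type u) [CommRing A] [IsLocalRing A] [Algebra V A]
  [IsLocalHom (algebraMap V A)]

/-- `A ⊗[V] V'` is a local ring (no flatness assumption on `A`). -/
theorem isLocalRing_tensor (h : TotRam V V') : IsLocalRing (A ⊗[V] V') := by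
  have hint := h.isIntegral
  have hres := h.resPI
  have hloc := h.isLocalHom
  have htf : Module.IsTorsionFree V V' := by
    have : FaithfulSMul V V' := (faithfulSMul_iff_algebraMap_injective V V').2 h.inj
    infer_instance
  have hfl : Module.Flat V V' := inferInstance
  have hff : Module.FaithfullyFlat V V' := Module.FaithfullyFlat.of_flat_of_isLocalHom
  have hnt : Nontrivial (A ⊗[V] V') := by
    have : Module.FaithfullyFlat A (A ⊗[V] V') := inferInstance
    infer_instance
  have key : ∀ M N : Ideal (A ⊗[V] V'), M.IsMaximal → N.IsMaximal → M ≤ N := by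
    intro M N hM hN x hx
    obtain ⟨n, s, hs⟩ := Flat2G.EtUnibranch.exists_pow_sub_mem (A := V) (S := A) (R' := V') hres x
    have hn : ringExpChar (IsLocalRing.ResidueField V) ^ n ≠ 0 :=
      (pow_pos (expChar_pos (IsLocalRing.ResidueField V) _) _).ne'
    have h1 : algebraMap A (A ⊗[V] V') s ∈ M := by
      have h3 := M.sub_mem (M.pow_mem_of_mem hx _ (Nat.pos_of_ne_zero hn)) (hs M hM)
      simpa using h3
    have h2 : algebraMap A (A ⊗[V] V') s ∈ N := by
      rw [← Ideal.mem_comap, Flat2G.EtUnibranch.comap_algebraMap_tensor] at h1 ⊢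
      exact h1
    refine hN.isPrime.mem_of_pow_mem (ringExpChar (IsLocalRing.ResidueField V) ^ n) ?_
    have h3 := N.add_mem (hs N hN) h2
    simpa using h3
  obtain ⟨M, hM⟩ := Ideal.exists_maximal (A ⊗[V] V')
  exact IsLocalRing.of_unique_max_ideal ⟨M, hM, fun N hN => le_antisymm (key N M hN hM) (key M N hM hN)⟩

end

section Punct

variable (V K Ω : Type u) [CommRing V] [IsDomain V] [IsDiscreteValuationRing V] [HenselianLocalRing V]
    [IsSepClosed (ResidueField V)] [CharZero (ResidueField V)]
    [Field K] [Algebra V K] [IsFractionRing V K]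
    [Field Ω] [Algebra K Ω] [IsSepClosure K Ω] [Algebra V Ω] [IsScalarTower V K Ω]

variable (A : Type u) [CommRing A] [IsLocalRing A] [IsNoetherianRing A] [Algebra V A] [IsLocalHom (algebraMap V A)]

variable (hLA : ∀ {W S : Scheme.{u}} (h : W ⟶ S), Smooth h → EtRest.IsLocallyAcyclic h)
  (hsm : ∀ y : (FEt.puncturedSpec A : Scheme.{u}), ((FEt.puncturedSpec A).ι ≫ toBase V A) y = closedPoint V →
      SmLike ((FEt.puncturedSpec A).ι ≫ toBase V A) y)

include K hLA hsm

/-- **Nearby cycles and finite extensions, vanishing.** -/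
theorem subsingleton_H_nearby (m : ℕ) (hm : 0 < m) (i : ℕ)
    (h : ∀ (V' : Type u) [CommRing V'] [IsDomain V'] [IsDiscreteValuationRing V'] [Algebra V V']
      (_ : TotRam V V') [IsLocalRing (A ⊗[V] V')],
      Subsingleton (EtCoh.H (FEt.puncturedSpec (A ⊗[V] V') : Scheme.{u})
        (EtCoh.const (FEt.puncturedSpec (A ⊗[V] V') : Scheme.{u}) (ZMod m)) i)) :
    Subsingleton (EtCoh.H (pullback (toBase V A) (toBase V Ω))
      (EtCoh.const (pullback (toBase V A) (toBase V Ω)) (ZMod m)) i) := by
  have hsep : Algebra.IsSeparable K Ω := IsSepClosure.separable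
  have hdir : IsDirected (Idx V Ω) (· ≤ ·) := isDirected V K Ω
  have hmem := exists_mem V K Ω
  have hne : Nonempty (Idx V Ω) := ⟨(hmem 0).choose⟩
  have hqc := quasiCompact_punctured V A
  have key : Subsingleton (EtCoh.H (pullback ((FEt.puncturedSpec A).ι ≫ toBase V A)
      (toBase V (integralClosure V Ω)))
      (EtCoh.const (pullback ((FEt.puncturedSpec A).ι ≫ toBase V A)
      (toBase V (integralClosure V Ω))) (ZMod m)) i) := by
    refine NearbyRed.subsingleton_H V Ω ((FEt.puncturedSpec A).ι ≫ toBase V A) hmem m i fun B => ?_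
    have hB := B.2.2
    have htr := totRam V Ω B (Groth.Agent.Sga4h.UlaRing812.algebraMap_injective V K Ω)
    have hint := htr.isIntegral
    have hloc : IsLocalRing (A ⊗[V] B.1) := isLocalRing_tensor A htr
    obtain ⟨a, b, hP⟩ := exists_isPullback_punctured V A B.1
    obtain ⟨e⟩ := nonempty_HIso hP.isoPullback.symm m i
    have := h B.1 htr
    exact e.symm.toEquiv.subsingleton
  obtain ⟨e1⟩ := nonempty_HEquiv V K Ω hLA _ hsm m hm i
  obtain ⟨e2⟩ := exists_iso_nearby V K Ω A
  obtain ⟨e3⟩ := nonempty_HIso e2 m i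
  exact (e1.trans e3).symm.toEquiv.subsingleton

/-- **Nearby cycles and finite extensions, connectedness.** -/
theorem connectedSpace_nearby
    (h : ∀ (V' : Type u) [CommRing V'] [IsDomain V'] [IsDiscreteValuationRing V'] [Algebra V V']
      (_ : TotRam V V') [IsLocalRing (A ⊗[V] V')], ConnectedSpace ↥(FEt.puncturedSpec (A ⊗[V] V'))) :
    ConnectedSpace ↥(pullback (toBase V A) (toBase V Ω)) := by
  have hsep : Algebra.IsSeparable K Ω := IsSepClosure.separable
  have hdir : IsDirected (Idx V Ω) (· ≤ ·) := isDirected V K Ω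
  have hmem := exists_mem V K Ω
  have hne : Nonempty (Idx V Ω) := ⟨(hmem 0).choose⟩
  have hqc := quasiCompact_punctured V A
  have key : ConnectedSpace ↥(pullback ((FEt.puncturedSpec A).ι ≫ toBase V A)
      (toBase V (integralClosure V Ω))) := by
    refine NearbyRed.connectedSpace V Ω ((FEt.puncturedSpec A).ι ≫ toBase V A) hmem fun B => ?_
    have hB := B.2.2
    have htr := totRam V Ω B (Groth.Agent.Sga4h.UlaRing812.algebraMap_injective V K Ω)
    have hint := htr.isIntegral
    have hloc : IsLocalRing (A ⊗[V] B.1) := isLocalRing_tensor A htr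
    obtain ⟨a, b, hP⟩ := exists_isPullback_punctured V A B.1
    have := h B.1 htr
    exact hP.isoPullback.hom.homeomorph.connectedSpace_iff.1 this
  obtain ⟨e1⟩ := nonempty_HEquiv V K Ω hLA _ hsm 2 two_pos 0
  obtain ⟨e2⟩ := exists_iso_nearby V K Ω A
  obtain ⟨e3⟩ := nonempty_HIso e2 2 0
  obtain ⟨e4⟩ := Groth.Agent.Etrest.SHPoint.nonempty_H0_const (pullback ((FEt.puncturedSpec A).ι ≫ toBase V A)
      (toBase V (integralClosure V Ω))) (ZMod 2)
  exact (Groth.Agent.Etbc.H225.ConnOfH0.connectedSpace_of_H0 _ (ZMod 2) ⟨((e1.trans e3).symm.trans e4)⟩).2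

end Punct

section

variable (V K Ω : Type u) [CommRing V] [IsDomain V] [IsDiscreteValuationRing V] [HenselianLocalRing V]
    [IsSepClosed (ResidueField V)] [CharZero (ResidueField V)]
    [Field K] [Algebra V K] [IsFractionRing V K]
    [Field Ω] [Algebra K Ω] [IsSepClosure K Ω] [Algebra V Ω] [IsScalarTower V K Ω]
    {X : Scheme.{u}} (f : X ⟶ Spec (CommRingCat.of V)) [LocallyOfFinitePresentation f]
    (x : X) (hx : f.base x = closedPoint V)
    (U : X.Opens) (hxU : x ∈ U)
    (hisol : ∀ y : X, y ∈ U → f.base y = closedPoint V → y ≠ x → y ∈ f.smoothLocus)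
    (Osh : Type u) [CommRing Osh] [IsLocalRing Osh] [Algebra (X.presheaf.stalk x) Osh]
    [IsLocalHom (algebraMap (X.presheaf.stalk x) Osh)] [Hensel.IsStrictHenselization (X.presheaf.stalk x) Osh]
    [Algebra V Osh]
    (hVO : Spec.map (CommRingCat.ofHom (algebraMap V Osh)) = Hens2.specOf X x Osh ≫ f)

include K hx hxU hisol hVO

/-- The cohomology of the nearby fibre vanishes in degree `i` if the cohomology of the punctured strict localizations
after totally ramified base extension does. -/
theorem subsingleton_H (m : ℕ) (hm : 0 < m) (i : ℕ)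
    (h : ∀ (V' : Type u) [CommRing V'] [IsDomain V'] [IsDiscreteValuationRing V'] [Algebra V V']
      (_ : TotRam V V') [IsLocalRing (Osh ⊗[V] V')],
      Subsingleton (EtCoh.H (FEt.puncturedSpec (Osh ⊗[V] V') : Scheme.{u})
        (EtCoh.const (FEt.puncturedSpec (Osh ⊗[V] V') : Scheme.{u}) (ZMod m)) i)) :
    Subsingleton (EtCoh.H (SGA7.nearbyFibre f x Osh Ω)
      (EtCoh.const (SGA7.nearbyFibre f x Osh Ω) (ZMod m)) i) := by
  have h1 := isLocalHom_of_specOf f x Osh hVO hx
  have h3 : IsLocallyNoetherian X := LocallyOfFiniteType.isLocallyNoetherian f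
  have h4 : IsNoetherianRing Osh := (Groth.Agent.S0540.result (X.presheaf.stalk x) Osh).1 inferInstance
  have h5 := subsingleton_H_nearby V K Ω Osh (fun h hh => isLocallyAcyclic_of_smooth h hh) (fun y hy => by
    rw [toBase, hVO] at hy ⊢
    exact smLike_punctured f x Osh U hxU hisol y hy) m hm i h
  have h6 : toBase V Osh = Spec.map (CommRingCat.ofHom (algebraMap (X.presheaf.stalk x) Osh)) ≫
      X.fromSpecStalk x ≫ f := by
    rw [toBase, hVO, Hens2.specOf, Category.assoc]
  rw [h6] at h5
  exact h5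

/-- The nearby fibre is connected if the punctured strict localizations after totally ramified base extension are. -/
theorem connectedSpace
    (h : ∀ (V' : Type u) [CommRing V'] [IsDomain V'] [IsDiscreteValuationRing V'] [Algebra V V']
      (_ : TotRam V V') [IsLocalRing (Osh ⊗[V] V')], ConnectedSpace ↥(FEt.puncturedSpec (Osh ⊗[V] V'))) :
    ConnectedSpace ↥(SGA7.nearbyFibre f x Osh Ω) := by
  have h1 := isLocalHom_of_specOf f x Osh hVO hx
  have h3 : IsLocallyNoetherian X := LocallyOfFiniteType.isLocallyNoetherian f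
  have h4 : IsNoetherianRing Osh := (Groth.Agent.S0540.result (X.presheaf.stalk x) Osh).1 inferInstance
  have h5 := connectedSpace_nearby V K Ω Osh (fun h hh => isLocallyAcyclic_of_smooth h hh) (fun y hy => by
    rw [toBase, hVO] at hy ⊢
    exact smLike_punctured f x Osh U hxU hisol y hy) h
  have h6 : toBase V Osh = Spec.map (CommRingCat.ofHom (algebraMap (X.presheaf.stalk x) Osh)) ≫
      X.fromSpecStalk x ≫ f := by
    rw [toBase, hVO, Hens2.specOf, Category.assoc]
  rw [h6] at h5
  exact h5

/-- The nearby fibre in degrees `< n` from the étale depth of the strict localizations after totally ramified base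
extension. -/
theorem main (n : ℕ)
    (h : ∀ (V' : Type u) [CommRing V'] [IsDomain V'] [IsDiscreteValuationRing V'] [Algebra V V']
      (_ : TotRam V V') [IsLocalRing (Osh ⊗[V] V')] (m : ℕ), 0 < m →
      EtDepth.DepthGE (FEt.puncturedSpec (Osh ⊗[V] V')).ι
        (EtCoh.const (Spec (CommRingCat.of (Osh ⊗[V] V'))) (ZMod m)) (n + 1)) :
    (∀ m : ℕ, 0 < m → ∀ i : ℕ, 0 < i → i < n → Subsingleton (EtCoh.H (SGA7.nearbyFibre f x Osh Ω)
      (EtCoh.const (SGA7.nearbyFibre f x Osh Ω) (ZMod m)) i)) ∧
      (0 < n → ConnectedSpace ↥(SGA7.nearbyFibre f x Osh Ω)) := by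
  have hs : Hensel.IsStrictHenselization (X.presheaf.stalk x) Osh := inferInstance
  have hO1 : HenselianLocalRing Osh := hs.henselian
  have hO2 : IsSepClosed (ResidueField Osh) := hs.isSepClosure.sep_closed
  have hVOsh := isLocalHom_of_specOf f x Osh hVO hx
  refine ⟨fun m hm i hi hin => ?_, fun hn => ?_⟩
  · obtain ⟨k, rfl⟩ : ∃ k, n = k + 1 := ⟨n - 1, by omega⟩
    refine subsingleton_H V K Ω f x hx U hxU hisol Osh hVO m hm i ?_
    intro V' _ _ _ _ ht _
    have h1 : HenselianLocalRing (Osh ⊗[V] V') := Groth.Agent.Sga7.H752.BaseExtHens.henselian_tensor Osh ht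
    have h2 : IsSepClosed (ResidueField (Osh ⊗[V] V')) := Groth.Agent.Sga7.H752.BaseExtHens.isSepClosed_tensor Osh ht
    exact (punctured_of_depthGE (Osh ⊗[V] V') m k (h V' ht m hm)).1 i hi (by omega)
  · obtain ⟨k, rfl⟩ : ∃ k, n = k + 1 := ⟨n - 1, by omega⟩
    refine connectedSpace V K Ω f x hx U hxU hisol Osh hVO ?_
    intro V' _ _ _ _ ht _
    have h1 : HenselianLocalRing (Osh ⊗[V] V') := Groth.Agent.Sga7.H752.BaseExtHens.henselian_tensor Osh ht
    have h2 : IsSepClosed (ResidueField (Osh ⊗[V] V')) := Groth.Agent.Sga7.H752.BaseExtHens.isSepClosed_tensor Osh ht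
    exact (Groth.Agent.Etbc.H225.ConnOfH0.connectedSpace_of_H0 _ (ZMod 2)
      (punctured_of_depthGE (Osh ⊗[V] V') 2 k (h V' ht 2 two_pos)).2).2

end

end Groth.Agent.SGA7.K445.NearbyNF
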