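import Groth.Agent.Sga7.H752.CIPres
import Groth.Agent.Sga7.H752.IsolClosed
import Groth.Agent.Lefpen.H705.ClosedPoint
import Groth.Agent.Ega4dB.ClosedStalk

/-!
# Relative geometric depth: the local presentation

`f : X ⟶ Spec V`, an open neighbourhood of `x` in `X` being `V`-isomorphic to `Spec (B / I)` with `B` smooth of
relative dimension `N` over `V` and `I` generated by `c` elements, `x` closed in its fibre over the closed point:
`O_{X,x} = R / (r_1, …, r_c)` with `R` regular local of dimension `N + 1`, flat over `V` with regular closed fibre.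
-/

set_option autoImplicit false
universe u

open CategoryTheory CategoryTheory.Limits AlgebraicGeometry IsLocalRing

namespace Groth.Agent.SGA7.K445.RelDepth

open Groth.Agent.Sga7.H752.CIPres

section Closed

variable {X S : Scheme.{u}} (f : X ⟶ S)

/-- A point is closed in its fibre iff it has no proper specialization there. -/
theorem isClosed_asFiber_iff (x : X) :
    IsClosed ({f.asFiber x} : Set (f.fiber (f x))) ↔ ∀ y : X, x ⤳ y → f y = f x → y = x := by
  have hemb := (f.fiberι (f x)).isEmbedding
  constructor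
  · intro h y hxy hy
    obtain ⟨z, rfl⟩ : y ∈ Set.range (f.fiberι (f x)) := by
      rw [Scheme.Hom.range_fiberι]
      exact hy
    have h1 : f.asFiber x ⤳ z := by
      rw [← hemb.isInducing.specializes_iff, Scheme.Hom.fiberι_asFiber]
      exact hxy
    have h2 : z ∈ closure ({f.asFiber x} : Set (f.fiber (f x))) := specializes_iff_mem_closure.1 h1
    rw [h.closure_eq, Set.mem_singleton_iff] at h2
    rw [h2, Scheme.Hom.fiberι_asFiber]
  · intro h
    refine isClosed_of_closure_subset fun z hz => ?_
    have h1 : f.asFiber x ⤳ z := specializes_iff_mem_closure.2 hz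
    have h2 : x ⤳ f.fiberι (f x) z := by
      have h3 := hemb.isInducing.specializes_iff.2 h1
      rwa [Scheme.Hom.fiberι_asFiber] at h3
    have h3 : f (f.fiberι (f x) z) = f x := by
      have h4 : f.fiberι (f x) z ∈ Set.range (f.fiberι (f x)) := ⟨z, rfl⟩
      rw [Scheme.Hom.range_fiberι] at h4
      exact h4
    rw [Set.mem_singleton_iff]
    apply hemb.injective
    rw [h _ h2 h3, Scheme.Hom.fiberι_asFiber]

theorem isClosed_asFiber_of_charts {P Z : Scheme.{u}} (π : P ⟶ S) (i : Z ⟶ P) [IsClosedImmersion i] (j : Z ⟶ X)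
    [IsOpenImmersion j] (h : i ≫ π = j ≫ f) (z : Z) (hc : IsClosed ({f.asFiber (j z)} : Set (f.fiber (f (j z))))) :
    IsClosed ({π.asFiber (i z)} : Set (π.fiber (π (i z)))) := by
  rw [isClosed_asFiber_iff] at hc ⊢
  intro y hy hπ
  have hcl : IsClosed (Set.range i) := i.isClosedEmbedding.isClosed_range
  obtain ⟨z', rfl⟩ : y ∈ Set.range i := hcl.stableUnderSpecialization hy ⟨z, rfl⟩
  have h1 : z ⤳ z' := i.isClosedEmbedding.isInducing.specializes_iff.1 hy
  have h2 := hc (j z') (h1.map j.continuous) (by
    rw [← Scheme.Hom.comp_apply, ← Scheme.Hom.comp_apply, ← h, Scheme.Hom.comp_apply, Scheme.Hom.comp_apply, hπ])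
  rw [j.isOpenEmbedding.injective h2]

end Closed

section Ker

variable {B : Type u} [CommRing B] (I : Ideal B)

/-- The kernel of the stalk maps of `Spec (B / I) ⟶ Spec B`. -/
theorem ker_stalkMap_mk (z : Spec (CommRingCat.of (B ⧸ I))) :
    ∃ g : B →+* (Spec (CommRingCat.of B)).presheaf.stalk (Spec.map (CommRingCat.ofHom (Ideal.Quotient.mk I)) z),
      RingHom.ker ((Spec.map (CommRingCat.ofHom (Ideal.Quotient.mk I))).stalkMap z).hom = I.map g := by
  let i : Spec (CommRingCat.of (B ⧸ I)) ⟶ Spec (CommRingCat.of B) := Spec.map (CommRingCat.ofHom (Ideal.Quotient.mk I))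
  let E := (Scheme.ΓSpecIso (CommRingCat.of B)).inv.hom
  have hE : Function.Bijective E := ConcreteCategory.bijective_of_isIso (Scheme.ΓSpecIso (CommRingCat.of B)).inv
  have hE' : Function.Bijective (Scheme.ΓSpecIso (CommRingCat.of (B ⧸ I))).inv.hom :=
    ConcreteCategory.bijective_of_isIso (Scheme.ΓSpecIso (CommRingCat.of (B ⧸ I))).inv
  have hle : (⊤ : (Spec (CommRingCat.of (B ⧸ I))).Opens) ≤ i ⁻¹ᵁ ⊤ := le_of_eq (by rfl)
  have hnat : (i.appLE ⊤ ⊤ hle).hom.comp E =
      (Scheme.ΓSpecIso (CommRingCat.of (B ⧸ I))).inv.hom.comp (Ideal.Quotient.mk I) := by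
    have h1 := Scheme.ΓSpecIso_inv_naturality (CommRingCat.ofHom (Ideal.Quotient.mk I))
    have h2 : i.appLE ⊤ ⊤ hle = i.appTop := by
      rw [Scheme.Hom.appLE]
      have : (homOfLE hle).op = 𝟙 (Opposite.op (⊤ : (Spec (CommRingCat.of (B ⧸ I))).Opens)) := Subsingleton.elim _ _
      erw [this, CategoryTheory.Functor.map_id, Category.comp_id]
    rw [h2]
    exact congrArg CommRingCat.Hom.hom h1.symm
  have hker : RingHom.ker (i.appLE ⊤ ⊤ hle).hom = I.map E := by
    have h1 : (RingHom.ker (i.appLE ⊤ ⊤ hle).hom).comap E = I := by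
      rw [RingHom.comap_ker, hnat]
      ext a
      rw [RingHom.mem_ker, RingHom.comp_apply]
      constructor
      · intro h
        have h2 : Ideal.Quotient.mk I a = 0 := hE'.1 (by rw [h, map_zero])
        exact Ideal.Quotient.eq_zero_iff_mem.1 h2
      · intro h
        rw [Ideal.Quotient.eq_zero_iff_mem.2 h, map_zero]
    exact (Ideal.map_comap_of_surjective E hE.2 _).symm.trans (congrArg (Ideal.map E) h1)
  have hs : Function.Surjective (i.appLE ⊤ ⊤ hle).hom := by
    intro y
    obtain ⟨y, rfl⟩ := hE'.2 y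
    obtain ⟨b, rfl⟩ := Ideal.Quotient.mk_surjective y
    exact ⟨E b, congrArg (fun g => g b) hnat⟩
  have key := Ega4dB.ClosedStalk.ker_stalkMap_of_surjective_appLE i (isAffineOpen_top _) (isAffineOpen_top _) hle hs z
    trivial trivial
  refine ⟨((Spec (CommRingCat.of B)).presheaf.germ ⊤ (i z) trivial).hom.comp E, ?_⟩
  rw [hker, Ideal.map_map] at key
  exact key

end Ker

section Smooth

variable {S P : Scheme.{u}} (π : P ⟶ S)

/-- The local rings of the fibres of a smooth morphism are regular. -/
theorem isRegularLocalRing_fiberStalk (n : ℕ) [SmoothOfRelativeDimension n π] (p : P) :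
    IsRegularLocalRing (CInt.fiberStalk π p) := by
  have hs : Smooth π := SmoothOfRelativeDimension.smooth n π
  have : Smooth (π.fiberToSpecResidueField (π p)) :=
    inferInstanceAs (Smooth (pullback.snd π (S.fromSpecResidueField (π p))))
  exact Lefpen.H705.ClosedPoint.isRegularLocalRing_stalk (k := S.residueField (π p))
    (π.fiberToSpecResidueField (π p)) (π.asFiber p)

theorem ringKrullDim_fiberStalk (n : ℕ) [SmoothOfRelativeDimension n π] (p : P)
    (hp : IsClosed ({π.asFiber p} : Set (π.fiber (π p)))) : ringKrullDim (CInt.fiberStalk π p) = n := by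
  have hst := smoothOfRelativeDimension_isStableUnderBaseChange.{u} n
  have : SmoothOfRelativeDimension n (π.fiberToSpecResidueField (π p)) :=
    MorphismProperty.pullback_snd (P := @SmoothOfRelativeDimension n) π (S.fromSpecResidueField (π p)) inferInstance
  exact Lefpen.H705.ClosedPoint.ringKrullDim_stalk (k := S.residueField (π p))
    (π.fiberToSpecResidueField (π p)) n (π.asFiber p) hp

end Smooth

/-- Local presentation at a point over the closed point of `V`, closed in its fibre. -/
theorem exists_pres {V : Type u} [CommRing V] [IsDomain V] [IsDiscreteValuationRing V]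
    {X : Scheme.{u}} (f : X ⟶ Spec (CommRingCat.of V)) (N : ℕ) (B : Type u) [CommRing B] [Algebra V B]
    [SmoothOfRelativeDimension N (Spec.map (CommRingCat.ofHom (algebraMap V B)))]
    (I : Ideal B) (gens : Finset B) (hI : I = Ideal.span (gens : Set B))
    (j : Spec (CommRingCat.of (B ⧸ I)) ⟶ X) [IsOpenImmersion j]
    (hj : j ≫ f = Spec.map (CommRingCat.ofHom (algebraMap V (B ⧸ I))))
    (z : Spec (CommRingCat.of (B ⧸ I))) (hz : f (j z) = closedPoint V)
    (hcl : IsClosed ({f.asFiber (j z)} : Set (f.fiber (f (j z))))) :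
    ∃ (R : Type u) (_ : CommRing R) (_ : IsRegularLocalRing R) (τ : V →+* R) (_ : IsLocalHom τ) (_ : τ.Flat)
      (_ : IsRegularLocalRing (R ⧸ (maximalIdeal V).map τ)) (φ : R →+* X.presheaf.stalk (j z)) (rs : List R),
      φ.comp τ = (str f (j z)).hom ∧ Function.Surjective φ ∧ RingHom.ker φ = Ideal.ofList rs ∧
        rs.length = gens.card ∧ ringKrullDim R = ((N + 1 : ℕ) : WithBot ℕ∞) := by
  let π : Spec (CommRingCat.of B) ⟶ Spec (CommRingCat.of V) := Spec.map (CommRingCat.ofHom (algebraMap V B))
  let i : Spec (CommRingCat.of (B ⧸ I)) ⟶ Spec (CommRingCat.of B) := Spec.map (CommRingCat.ofHom (Ideal.Quotient.mk I))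
  have hiC : IsClosedImmersion i := IsClosedImmersion.spec_of_surjective _ Ideal.Quotient.mk_surjective
  have hcond : i ≫ π = j ≫ f := by
    rw [hj, ← Spec.map_comp]
    rfl
  have hsm : Smooth π := SmoothOfRelativeDimension.smooth N π
  have hclp : IsClosed ({π.asFiber (i z)} : Set (π.fiber (π (i z)))) :=
    isClosed_asFiber_of_charts f π i j hcond z hcl
  have hp : π (i z) = closedPoint V := by
    rw [← Scheme.Hom.comp_apply, hcond, Scheme.Hom.comp_apply]
    exact hz
  let ψ : (Spec (CommRingCat.of B)).presheaf.stalk (i z) ⟶ X.presheaf.stalk (j z) := i.stalkMap z ≫ inv (j.stalkMap z)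
  have hψs : Function.Surjective ψ.hom := by
    rw [CommRingCat.hom_comp, RingHom.coe_comp]
    exact (ConcreteCategory.bijective_of_isIso (inv (j.stalkMap z))).2.comp (i.stalkMap_surjective _)
  have hψ : Spec.map ψ ≫ (Spec (CommRingCat.of B)).fromSpecStalk _ ≫ π = X.fromSpecStalk (j z) ≫ f := by
    have h2 : Spec.map (inv (j.stalkMap z)) ≫ (Spec (CommRingCat.of (B ⧸ I))).fromSpecStalk z ≫ j =
        X.fromSpecStalk (j z) := by
      rw [Spec.map_inv, IsIso.inv_comp_eq, Scheme.SpecMap_stalkMap_fromSpecStalk]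
    rw [Spec.map_comp, Category.assoc, Scheme.SpecMap_stalkMap_fromSpecStalk_assoc, hcond, ← h2,
      Category.assoc, Category.assoc]
  have hψ3 : str π (i z) ≫ ψ = str f (j z) := by
    apply Spec.map_injective
    rw [Spec.map_comp, specMap_str, specMap_str, hψ]
  -- the kernel
  obtain ⟨g, hg⟩ := ker_stalkMap_mk I z
  have hker : RingHom.ker ψ.hom = Ideal.ofList (gens.toList.map g) := by
    have hinj : Function.Injective (inv (j.stalkMap z)).hom :=
      (ConcreteCategory.bijective_of_isIso (inv (j.stalkMap z))).1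
    have h1 : RingHom.ker ψ.hom = RingHom.ker (i.stalkMap z).hom := by
      rw [CommRingCat.hom_comp, RingHom.ker_comp_of_injective _ hinj]
    rw [h1, hg]
    refine (congrArg (Ideal.map g) hI).trans ?_
    rw [Ideal.map_span, Ideal.ofList]
    congr 1
    ext a
    simp only [Set.mem_image, Finset.mem_coe, List.mem_map, Finset.mem_toList, Set.mem_ofPred_eq]
  -- regularity
  have : IsLocallyNoetherian (Spec (CommRingCat.of V)) := inferInstance
  have : IsLocallyNoetherian (Spec (CommRingCat.of B)) := LocallyOfFiniteType.isLocallyNoetherian π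
  have hR : IsRegularLocalRing ((Spec (CommRingCat.of B)).presheaf.stalk (i z) ⧸
      (maximalIdeal V).map (str π (i z)).hom) := by
    rw [map_maximalIdeal_eq π (i z) hp]
    have := isRegularLocalRing_fiberStalk π N (i z)
    exact IsRegularLocalRing.of_ringEquiv (Ega4dB.FiberStalk.fiberStalkEquiv π (i z)).symm
  have hloc : IsLocalHom (str π (i z)).hom := isLocalHom_str π (i z) hp
  have hR' : IsRegularLocalRing ((Spec (CommRingCat.of B)).presheaf.stalk (i z)) :=
    isRegularLocalRing_of_flat (str π (i z)).hom (flat_str π (i z)) hR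
  refine ⟨_, _, hR', (str π (i z)).hom, hloc, flat_str π (i z), hR, ψ.hom, gens.toList.map g, ?_, hψs, hker, ?_, ?_⟩
  · rw [← hψ3]; rfl
  · rw [List.length_map, Finset.length_toList]
  · let _ : Algebra V ((Spec (CommRingCat.of B)).presheaf.stalk (i z)) := (str π (i z)).hom.toAlgebra
    have : Module.Flat V ((Spec (CommRingCat.of B)).presheaf.stalk (i z)) := flat_str π (i z)
    have : IsLocalHom (algebraMap V ((Spec (CommRingCat.of B)).presheaf.stalk (i z))) := isLocalHom_str π (i z) hp
    have h4 := Ega4A.RegEtale.ringKrullDim_eq_add_of_flat V ((Spec (CommRingCat.of B)).presheaf.stalk (i z))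
    have h5 : (maximalIdeal V).map (algebraMap V ((Spec (CommRingCat.of B)).presheaf.stalk (i z))) =
        Ega4dB.FiberStalk.fibIdeal π (i z) := map_maximalIdeal_eq π (i z) hp
    rw [h4, IsPrincipalIdealRing.ringKrullDim_eq_one V (IsDiscreteValuationRing.not_isField V), h5,
      ringKrullDim_eq_of_ringEquiv (Ega4dB.FiberStalk.fiberStalkEquiv π (i z)),
      ringKrullDim_fiberStalk π N (i z) hclp]
    push_cast
    ring

end Groth.Agent.SGA7.K445.RelDepth
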