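import Groth.Agent.SGA7.K445.NearbyNF
import Groth.Agent.SGA7.K445.RelDepth
import Groth.Agent.Sga7.H752.DepthTensor
import Groth.Agent.Sga7.H747.NearbySmooth

/-!
# Vanishing cycles below the relative geometric depth in residue characteristic zero

The vanishing theorem, granting the depth theorem `DepthTensor.ThmD`.
-/

set_option autoImplicit false
universe u

open CategoryTheory CategoryTheory.Limits AlgebraicGeometry IsLocalRing
open scoped TensorProduct

namespace Groth.Agent.SGA7.K445.RelDepthMain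

open Groth.Agent.Sga7.H752 Groth.Agent.Sga7.H752.BaseExt Groth.Agent.Sga7.H752.BaseExtHens
  Groth.Agent.Sga7.H752.DepthWE Groth.Agent.Sga7.H752.DepthTensor Groth.Agent.Sga7.H752.CIPres

section

variable {V V' : Type u} [CommRing V] [IsDomain V] [IsDiscreteValuationRing V] [CommRing V'] [IsDomain V']
  [IsDiscreteValuationRing V'] [Algebra V V'] [CharZero (ResidueField V)]
  (O : Type u) [CommRing O] [IsLocalRing O] [Algebra V O] [IsLocalHom (algebraMap V O)]
  (R : Type u) [CommRing R] [hR : IsRegularLocalRing R] [Algebra V R] [IsLocalHom (algebraMap V R)]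
  [Module.Flat V R]

attribute [local instance] tAlg

/-- Depth of `Osh ⊗[V] V'`, without flatness of `O`. -/
theorem depth_tensor (Osh : Type u) [CommRing Osh] [IsLocalRing Osh] [Algebra O Osh] [Algebra V Osh]
    [IsScalarTower V O Osh] [IsLocalHom (algebraMap O Osh)] [hs : Hensel.IsStrictHenselization O Osh]
    {m : ℕ} (hD : ThmD.{u} m)
    (hreg : IsRegularLocalRing (R ⧸ (maximalIdeal V).map (algebraMap V R)))
    (φ : R →ₐ[V] O) (hφ : Function.Surjective φ) (rs : List R) (hker : RingHom.ker φ = Ideal.ofList rs)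
    (N : ℕ) (hdim : ringKrullDim R = ((N + rs.length : ℕ) : WithBot ℕ∞)) (h : TotRam V V')
    [IsLocalRing (Osh ⊗[V] V')] :
    EtDepth.DepthGE (FEt.puncturedSpec (Osh ⊗[V] V')).ι
      (EtCoh.const (Spec (CommRingCat.of (Osh ⊗[V] V'))) (ZMod m)) N := by
  have h1 : IsLocalRing (O ⊗[V] V') := NearbyNF.isLocalRing_tensor O h
  have h2 := isLocalHom_tensor V V' O Osh h
  have h3 := isStrictHenselization_tensor O Osh h
  have h4 := h.fin
  have hO : IsNoetherianRing O := isNoetherianRing_of_surjective R O φ.toRingHom hφ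
  have hN : IsNoetherianRing (O ⊗[V] V') := IsNoetherianRing.of_finite O (O ⊗[V] V')
  exact depthGE_strictHens (ZMod m) N (depth_tensor_aux O R hD hreg φ hφ rs hker N hdim h)

end

variable {V : Type u} [CommRing V] [IsDomain V] [IsDiscreteValuationRing V] [CharZero (ResidueField V)]

theorem depth {X : Scheme.{u}} (f : X ⟶ Spec (CommRingCat.of V)) (n N : ℕ) (B : Type u) [CommRing B] [Algebra V B]
    [SmoothOfRelativeDimension N (Spec.map (CommRingCat.ofHom (algebraMap V B)))]
    (I : Ideal B) (gens : Finset B) (hI : I = Ideal.span (gens : Set B)) (hn : n + gens.card ≤ N)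
    (j : Spec (CommRingCat.of (B ⧸ I)) ⟶ X) [IsOpenImmersion j]
    (hj : j ≫ f = Spec.map (CommRingCat.ofHom (algebraMap V (B ⧸ I))))
    (x : X) (hxj : x ∈ Set.range j) (hx : f x = closedPoint V)
    (hcl : IsClosed ({f.asFiber x} : Set (f.fiber (f x))))
    (Osh : Type u) [CommRing Osh] [IsLocalRing Osh] [Algebra (X.presheaf.stalk x) Osh]
    [IsLocalHom (algebraMap (X.presheaf.stalk x) Osh)] [Hensel.IsStrictHenselization (X.presheaf.stalk x) Osh]
    [Algebra V Osh] (hVO : Spec.map (CommRingCat.ofHom (algebraMap V Osh)) = Hens2.specOf X x Osh ≫ f)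
    (m : ℕ) (hD : ThmD.{u} m)
    (V' : Type u) [CommRing V'] [IsDomain V'] [IsDiscreteValuationRing V'] [Algebra V V'] (h : TotRam V V')
    [IsLocalRing (Osh ⊗[V] V')] :
    EtDepth.DepthGE (FEt.puncturedSpec (Osh ⊗[V] V')).ι
      (EtCoh.const (Spec (CommRingCat.of (Osh ⊗[V] V'))) (ZMod m)) (n + 1) := by
  obtain ⟨z, rfl⟩ := hxj
  let _ : Algebra V (X.presheaf.stalk (j z)) := (str f (j z)).hom.toAlgebra
  have htower : IsScalarTower V (X.presheaf.stalk (j z)) Osh := by
    refine IsScalarTower.of_algebraMap_eq' ?_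
    have h1 : Spec.map (CommRingCat.ofHom (algebraMap V Osh)) =
        Spec.map (CommRingCat.ofHom ((algebraMap (X.presheaf.stalk (j z)) Osh).comp
          (algebraMap V (X.presheaf.stalk (j z))))) := by
      rw [hVO, CommRingCat.ofHom_comp, Spec.map_comp, Hens2.specOf, Category.assoc]
      congr 1
      exact (specMap_str f (j z)).symm
    exact congrArg CommRingCat.Hom.hom (Spec.map_injective h1)
  have hlocO : IsLocalHom (algebraMap V (X.presheaf.stalk (j z))) := isLocalHom_str f (j z) hx
  obtain ⟨R, _, _, τ, hτ, hτf, hreg, φ, rs, hφτ, hφ, hker, hlen, hR⟩ :=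
    RelDepth.exists_pres f N B I gens hI j hj z hx hcl
  let _ : Algebra V R := τ.toAlgebra
  have : IsLocalHom (algebraMap V R) := hτ
  have : Module.Flat V R := RingHom.flat_algebraMap_iff.1 hτf
  let φ' : R →ₐ[V] X.presheaf.stalk (j z) := { φ with commutes' := fun v => congrArg (fun g => g v) hφτ }
  have hR2 : ringKrullDim R = (((N + 1 - gens.card) + rs.length : ℕ) : WithBot ℕ∞) := by
    rw [hR, hlen]
    have : N + 1 - gens.card + gens.card = N + 1 := by omega
    rw [this]
  have key := depth_tensor (X.presheaf.stalk (j z)) R Osh hD hreg φ' hφ rs hker (N + 1 - gens.card) hR2 h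
  exact fun p hp => key p (by omega)

end Groth.Agent.SGA7.K445.RelDepthMain
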